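import Cfsg.Agent.H354.EPX.Glue
import Cfsg.Agent.H252.EN.UbEps

/-!
# S5745, layer ENUM: the bound of the index (helper354)

`ubE : UbE` (heavy imports: the closure of `TwoGen`).
-/

set_option autoImplicit false

namespace Cfsg.Agent.H354.EPX

open Cfsg.Agent.H252.EN

theorem ubE : UbE := fun _ _ _ _ _ _ _ _ _ _ _ h hd => ub_eps h hd

end Cfsg.Agent.H354.EPX
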