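import Cfsg.Agent.H889.Enum.Base
import Cfsg.Agent.H252.EN.Tab

/-!
# S5745, layer ENUM: the glue of the cross cells (helper354)

`cross_gen` : `Cross p G` for a model `G` of the family `Y`, from the kernel tables of `H252.EN` and the surviving rows
(`NoS G g` : no `EPS` with a socle named `g`).
-/

set_option autoImplicit false

namespace Cfsg.Agent.H354.EPX

open Cfsg Cfsg.Agent.OrdDiv Cfsg.Agent.H902 Cfsg.Agent.H902.Names Cfsg.Agent.H290.ElReg
open Cfsg.Agent.H209.EPX Cfsg.Agent.H542.EPX Cfsg.Agent.H889.Enum Cfsg.Agent.H252.EN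

/-- `|Aut T|` for the nonsporadic simple groups -/
structure AutData : Prop where
  lie : ∀ (g : Grp) (X : Art.Sh) (l a : ℕ) (T : Type) [Group T] [Finite T] [IsSimpleGroup T],
    (¬ ∀ a b : T, a * b = b * a) → IsLie g X l a →
    OrdDiv.Real g T → Art.Real X l a (Nat.card T) → Nat.card (MulAut T) ∣ ouN X l a * Nat.card T
  alt : ∀ (n : ℕ) (T : Type) [Group T] [Finite T] [IsSimpleGroup T], (¬ ∀ a b : T, a * b = b * a) → 5 ≤ n →
    Nonempty (T ≃* alternatingGroup (Fin n)) → Nat.card (MulAut T) ∣ autA n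
  tits : ∀ (T : Type) [Group T] [Finite T] [IsSimpleGroup T], (¬ ∀ a b : T, a * b = b * a) → Lie.IsoTits T →
    Nat.card (MulAut T) ∣ 35942400

/-- the bound of the index -/
def UbE : Prop := ∀ (G : Type) [Group G] [Finite G] [IsSimpleGroup G] (H N : Subgroup G) (T : Type) [Group T]
  [Finite T] (e : N ≃* (Fin 1 → T)) (B : ℕ), EPS H N e → Nat.card (MulAut T) ∣ B → Ub B (Nat.card G)

/-- the socle is simple nonabelian -/
theorem nab_of {G : Type} [Group G] {H N : Subgroup G} {T : Type} [Group T] {k : ℕ} {e : N ≃* (Fin k → T)}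
    (h : EPS H N e) : ¬ ∀ a b : T, a * b = b * a := by
  obtain ⟨a, b, hab⟩ := h.nab
  exact fun hc => hab (hc a b)

/-- no `EPS` in `G` with a socle named `g` -/
def NoS (G : Type) [Group G] (g : Grp) : Prop :=
  ∀ (H N : Subgroup G) (T : Type) [Group T] (e : N ≃* (Fin 1 → T)), EPS H N e → OrdDiv.Real g T → False

/-- no `EPS` in `G` with a socle the Tits group -/
def NoTits (G : Type) [Group G] : Prop :=
  ∀ (H N : Subgroup G) (T : Type) [Group T] (e : N ≃* (Fin 1 → T)), EPS H N e → Lie.IsoTits T → False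

theorem cross_gen (hK : AllK) (A : AutData) (U : UbE) {D p f : ℕ} [Fact p.Prime] (hD : D ≤ 248) {F : Type} [Field F]
    [CharP F p] {G : Type} [Group G] [Finite G] [IsSimpleGroup G] (hG : Fth D F G) {Y : Art.Sh} (hY : Y ∈ Ys)
    (hR : Art.Real Y p f (Nat.card G)) {al : List ((Art.Sh × ℕ × ℕ) × ℕ)} (hc : chk Y D al = true) {m : ℕ}
    {alA : List (ℕ × ℕ)} (hcA : chkA Y m alA = true)
    (hm : ∀ (T : Type) [Group T] (n : ℕ) (i : T →* G), Function.Injective i →
      Nonempty (T ≃* alternatingGroup (Fin n)) → n ≤ m)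
    {alT : List (Unit × ℕ)} (hcT : chkTi Y alT = true)
    (rows : ∀ (X : Art.Sh) (l a : ℕ), ((X, (l, a)), p ^ f) ∈ al → l ≠ p → l.Prime → ∀ g, IsLie g X l a → NoS G g)
    (rowsA : ∀ n, (n, p ^ f) ∈ alA → NoS G (.alt n)) (rowsT : ((), p ^ f) ∈ alT → NoTits G) : Cross p G := by
  refine cross_base hK hD hG ?_ ?_ ?_
  · intro H N T _ _ e h n hn he _
    have : IsSimpleGroup T := h.simple
    have hd : Nat.card T ∣ Nat.card G := Subgroup.card_dvd_of_injective (emb e) (emb_injective e)
    have ht : 2 * Nat.card T = n.factorial := by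
      obtain ⟨i⟩ := he
      rw [Nat.card_congr i.toEquiv, Nat.card_eq_fintype_card]
      have : Nontrivial (Fin n) := Fin.nontrivial_iff_two_le.2 (by omega)
      rw [two_mul_card_alternatingGroup, Fintype.card_perm, Fintype.card_fin]
    have h1 := chkA_spec hY hcA hn (hm T n (emb e) (emb_injective e) he) ht hR
      (U G H N T e _ h (A.alt n T (nab_of h) hn he)) hd
    exact rowsA n h1 H N T e h he
  · intro H N T _ _ e h hT
    have : IsSimpleGroup T := h.simple
    have hd : Nat.card T ∣ Nat.card G := Subgroup.card_dvd_of_injective (emb e) (emb_injective e)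
    have ht : Nat.card T = 17971200 := table_spor T (.tits, 17971200) (by decide) hT
    rw [ht] at hd
    refine rowsT (chkT_spec hY hcT hR ?_ (U G H N T e _ h (A.tits T (nab_of h) hT)) hd) H N T e h hT
    rw [Nat.mod_zero]
    exact pow_ne_zero _ (Fact.out : p.Prime).ne_zero
  · intro H N T _ _ e h hT
    obtain ⟨g, X, l, a, hg, hRT, hA, hr, hlp⟩ := hT
    have : IsSimpleGroup T := h.simple
    have hd : Nat.card T ∣ Nat.card G := Subgroup.card_dvd_of_injective (emb e) (emb_injective e)
    have h1 := chk_spec hY hc hA hr hR hlp (U G H N T e _ h (A.lie g X l a T (nab_of h) hg hRT hA)) hd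
    exact rows X l a h1 hlp hA.hp g hg H N T e h hRT

end Cfsg.Agent.H354.EPX
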