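import Cfsg.Agent.H354.EPX.Glue
import Cfsg.Agent.H889.Enum.Aut
import Cfsg.Agent.H867.TitsOut
import Cfsg.Agent.S0254
import Cfsg.Agent.S2119

/-!
# S5745, layer ENUM: the orders of the automorphism groups (helper354)

`autData : AutData`.
-/

set_option autoImplicit false

namespace Cfsg.Agent.H354.EPX

open Cfsg Cfsg.Agent.OrdDiv Cfsg.Agent.H902 Cfsg.Agent.H902.Names
open Cfsg.Agent.H252.EN Cfsg.Agent.H364.OutLie Cfsg.Agent.H934.OutB

theorem pow_mod_one {q : ℕ} (h : q % 4 = 1) (n : ℕ) : q ^ n % 4 = 1 := by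
  simp [Nat.pow_mod, h]

theorem pow_mod_three {q : ℕ} (h : q % 4 = 3) (n : ℕ) : q ^ n % 4 = if n % 2 = 0 then 1 else 3 := by
  induction n with
  | zero => simp
  | succ n ih =>
    rw [pow_succ, Nat.mul_mod, ih, h]
    split_ifs <;> omega

theorem odd_pow {l a : ℕ} (hl : l.Prime) (h2 : l ≠ 2) : l ^ a % 2 = 1 := by
  have h1 : Odd l := (hl.eq_two_or_odd').resolve_left h2
  exact Nat.odd_iff.1 (h1.pow)

/-- the orthogonal groups: `q = 2 k + 1` -/
theorem four_dvd_sub {q n : ℕ} (hq : q % 2 = 1) (h : n * (q - 1) / 2 % 2 = 0) : 4 ∣ q ^ n - 1 := by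
  obtain ⟨k, rfl⟩ : ∃ k, q = 2 * k + 1 := ⟨q / 2, by omega⟩
  have h1 : n * (2 * k + 1 - 1) / 2 = n * k := by
    rw [Nat.add_sub_cancel, show n * (2 * k) = n * k * 2 by ring, Nat.mul_div_cancel _ (by norm_num)]
  rw [h1] at h
  have h2 : (2 * k + 1) ^ n % 4 = 1 := by
    rcases Nat.even_or_odd k with hk | hk
    · exact pow_mod_one (by obtain ⟨m, rfl⟩ := hk; omega) n
    · rw [pow_mod_three (by obtain ⟨m, rfl⟩ := hk; omega), if_pos]
      rcases (Nat.even_mul.1 (Nat.even_iff.2 h)) with h3 | h3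
      · exact Nat.even_iff.1 h3
      · exact absurd h3 (Nat.not_even_iff_odd.2 hk)
  omega

theorem four_dvd_add {q n : ℕ} (hq : q % 2 = 1) (h : ¬ n * (q - 1) / 2 % 2 = 0) : 4 ∣ q ^ n + 1 := by
  obtain ⟨k, rfl⟩ : ∃ k, q = 2 * k + 1 := ⟨q / 2, by omega⟩
  have h1 : n * (2 * k + 1 - 1) / 2 = n * k := by
    rw [Nat.add_sub_cancel, show n * (2 * k) = n * k * 2 by ring, Nat.mul_div_cancel _ (by norm_num)]
  rw [h1] at h
  have h2 : Odd (n * k) := Nat.odd_iff.2 (by omega)
  obtain ⟨hn, hk⟩ := Nat.odd_mul.1 h2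
  have h3 : (2 * k + 1) ^ n % 4 = 3 := by
    rw [pow_mod_three (by obtain ⟨m, rfl⟩ := hk; omega), if_neg]
    have := Nat.odd_iff.1 hn
    omega
  omega

theorem two_dvd_gcd {m : ℕ} (h : 2 ∣ m) : 2 ∣ Nat.gcd 4 m := Nat.dvd_gcd (by norm_num) h

theorem gcd_of_four {m : ℕ} (h : 4 ∣ m) : Nat.gcd 4 m = 4 := Nat.gcd_eq_left h

theorem ou_dvd {X : Art.Sh} {l a t : ℕ} (hr : Art.Real X l a t) : H889.Enum.ou X l a ∣ ouN X l a := by
  have hl := hr.hp
  cases X with
  | D n =>
    rw [H889.Enum.ou, ouN]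
    refine Nat.mul_dvd_mul_right ?_ _
    by_cases h2 : l = 2
    · rw [if_pos h2]
      refine (Nat.dvd_trans ?_ (Nat.dvd_mul_right _ _))
      split_ifs <;> norm_num
    · rw [if_neg h2]
      have hq := odd_pow (a := a) hl h2
      by_cases h : n * (l ^ a - 1) / 2 % 2 = 0
      · rw [if_pos h, gcd_of_four (four_dvd_sub hq h)]
        split_ifs <;> norm_num
      · rw [if_neg h]
        obtain ⟨c, hc⟩ := two_dvd_gcd (m := (l ^ a) ^ n - 1) (by
          have h3 : ((l ^ a) ^ n) % 2 = 1 := by rw [← pow_mul]; exact odd_pow hl h2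
          omega)
        rw [hc]
        split_ifs
        · exact ⟨c, by ring⟩
        · exact ⟨c, by ring⟩
  | DD n =>
    rw [H889.Enum.ou, ouN]
    refine Nat.mul_dvd_mul_right ?_ _
    by_cases h2 : l = 2
    · rw [if_pos h2]
      exact Nat.dvd_mul_right _ _
    · rw [if_neg h2]
      have hq := odd_pow (a := a) hl h2
      by_cases h : n * (l ^ a - 1) / 2 % 2 = 0
      · rw [if_pos h]
        obtain ⟨c, hc⟩ := two_dvd_gcd (m := (l ^ a) ^ n + 1) (by
          have h3 : ((l ^ a) ^ n) % 2 = 1 := by rw [← pow_mul]; exact odd_pow hl h2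
          omega)
        rw [hc]
        exact ⟨c, by ring⟩
      · rw [if_neg h, gcd_of_four (four_dvd_add hq h)]
  | F4 =>
    rw [H889.Enum.ou, ouN]
    refine Nat.mul_dvd_mul_right ?_ _
    by_cases h2 : l = 2
    · subst h2; norm_num
    · rw [if_neg h2, (Nat.coprime_primes Nat.prime_two hl).2 (Ne.symm h2)]
  | E8 => rw [H889.Enum.ou, ouN, one_mul]
  | Sz => rw [H889.Enum.ou, ouN, one_mul]
  | Ree => rw [H889.Enum.ou, ouN, one_mul]
  | TF4 => rw [H889.Enum.ou, ouN, one_mul]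
  | _ => exact dvd_rfl

theorem aut_lie {g : Grp} {X : Art.Sh} {l a : ℕ} {T : Type} [Group T] [Finite T] [IsSimpleGroup T]
    (hna : ¬ ∀ a b : T, a * b = b * a) (hg : IsLie g X l a) (h : OrdDiv.Real g T)
    (hr : Art.Real X l a (Nat.card T)) : Nat.card (MulAut T) ∣ ouN X l a * Nat.card T := by
  rw [H889.Enum.card_aut hna hg h hr]
  exact Nat.mul_dvd_mul_right (ou_dvd hr) _

theorem aut_alt {n : ℕ} {T : Type} [Group T] [Finite T] [IsSimpleGroup T] (hna : ¬ ∀ a b : T, a * b = b * a)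
    (hn : 5 ≤ n) (he : Nonempty (T ≃* alternatingGroup (Fin n))) : Nat.card (MulAut T) ∣ autA n := by
  obtain ⟨i⟩ := he
  rw [autA]
  split_ifs with h6
  · subst h6
    have : Fact (Nat.Prime 3) := ⟨Nat.prime_three⟩
    have : Fintype (GaloisField 3 2) := Fintype.ofFinite _
    have hF : Fintype.card (GaloisField 3 2) = 3 ^ 2 := by
      rw [← Nat.card_eq_fintype_card]
      exact GaloisField.card 3 2 (by norm_num)
    obtain ⟨e⟩ := Cfsg.Agent.S0254.result (F := GaloisField 3 2) (by rw [hF]; norm_num)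
    have hR : OrdDiv.Real (.psl 2 (3 ^ 2)) T := ⟨GaloisField 3 2, inferInstance, inferInstance, hF, ⟨i.trans e.symm⟩⟩
    have hA : Art.Real (.L 2) 3 2 (Nat.card T) := by
      rw [Nat.card_congr (i.trans e.symm).toEquiv]
      exact psl_real Nat.prime_three (by norm_num) hF le_rfl (fun _ => by norm_num)
    have h1 := H889.Enum.card_aut hna (.psl 2 3 2) hR hA
    have h2 : Nat.card T = 360 := by
      rw [Nat.card_congr i.toEquiv, Nat.card_eq_fintype_card]
      have : Nontrivial (Fin 6) := Fin.nontrivial_iff_two_le.2 (by omega)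
      have h3 := two_mul_card_alternatingGroup (α := Fin 6)
      rw [Fintype.card_perm, Fintype.card_fin] at h3
      have h4 : Nat.factorial 6 = 720 := by decide
      omega
    rw [h1, h2]
    exact ⟨1, by decide⟩
  · rw [mulaut_congr i, ← Nat.card_congr (Equiv.ofBijective _ (Cfsg.Agent.S2119.result n (by omega) h6)),
      Nat.card_perm, Nat.card_eq_fintype_card, Fintype.card_fin]

theorem aut_tits {T : Type} [Group T] [Finite T] [IsSimpleGroup T] (hna : ¬ ∀ a b : T, a * b = b * a)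
    (h : Lie.IsoTits T) : Nat.card (MulAut T) ∣ 35942400 := by
  have h5 := card_out_mul T (fun hc => hna fun a b => hc.is_comm.comm a b)
  have h1 : Nat.card T = 17971200 := table_spor T (.tits, 17971200) (by decide) h
  have h2 := H867.TitsOut.card_out_le h
  have h6 : 0 < Nat.card (MulAut T) := Nat.card_pos
  rw [← h5, h1] at h6 ⊢
  have h3 : 0 < Nat.card (Cfsg.Out T) := Nat.pos_of_mul_pos_right h6
  interval_cases (Nat.card (Cfsg.Out T)) <;> norm_num

theorem autData : AutData where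
  lie _ _ _ _ _ _ _ _ hna hg h hr := aut_lie hna hg h hr
  alt _ _ _ _ _ hna hn he := aut_alt hna hn he
  tits _ _ _ _ hna h := aut_tits hna h

end Cfsg.Agent.H354.EPX
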